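import Cfsg.Agent.Lib.KnownC.SemisimpleClasses
import Cfsg.Agent.Lib.KnownC.TupleCount
import Cfsg.Agent.Lib.KnownA.PGLInvolutions

/-!
# Classes of elements of prime order dividing `q - 1` in `PGL_n(q)`
-/

set_option autoImplicit false

namespace CfsgLib.KnownC.PGLPrime

open Polynomial Module CfsgLib.KnownC.SemisimpleClasses

variable (r : ℕ) (n : ℕ)

/-- Multiplicity functions of non-scalar elements. -/
def Types [NeZero r] := {a : ZMod r → ℕ // (∑ j, a j = n) ∧ ∀ j, a j ≠ n}

instance [NeZero r] : MulAction (Multiplicative (ZMod r)) (Types r n) where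
  smul s a := ⟨fun j => a.1 (j - s.toAdd), by
    exact (Equiv.sum_comp (Equiv.subRight s.toAdd) a.1).trans a.2.1, fun j => a.2.2 _⟩
  one_smul a := Subtype.ext (funext fun j => by show a.1 (j - 0) = a.1 j; rw [sub_zero])
  mul_smul s s' a := Subtype.ext (funext fun j => by
    show a.1 (j - (s.toAdd + s'.toAdd)) = a.1 (j - s.toAdd - s'.toAdd)
    rw [sub_sub])

theorem smul_apply [NeZero r] (s : Multiplicative (ZMod r)) (a : Types r n) (j : ZMod r) :
    (s • a).1 j = a.1 (j - s.toAdd) := rfl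

instance [NeZero r] : Finite (Types r n) :=
  Finite.of_injective (fun a j => (⟨a.1 j, Nat.lt_succ_of_le (by
    exact (Finset.single_le_sum (f := a.1) (fun _ _ => Nat.zero_le _) (Finset.mem_univ j)).trans a.2.1.le)⟩ : Fin (n + 1)))
    fun a b h => Subtype.ext (funext fun j => congrArg Fin.val (congrFun h j))

theorem card_types [Fact r.Prime] (hn : 1 ≤ n) :
    Nat.card (Types r n) = (n + r - 1).choose (r - 1) - r := by
  classical
  have hr := (Fact.out : r.Prime).two_le
  let S := {a : ZMod r → ℕ // ∑ j, a j = n}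
  haveI : Fintype S := Fintype.ofEquiv _ (Sym.equivNatSumOfFintype (ZMod r) n)
  have hS : Fintype.card S = (n + r - 1).choose (r - 1) := by
    rw [← Nat.card_eq_fintype_card, TupleCount.card_sum_eq (ZMod r) n, ZMod.card]
  have hsc : Fintype.card {a : S // ∃ j, a.1 j = n} = r := by
    conv_rhs => rw [← ZMod.card r]
    refine (Fintype.card_of_bijective
      (f := fun j : ZMod r => (⟨⟨Pi.single j n, by simp⟩, j, by simp⟩ : {a : S // ∃ j, a.1 j = n}))
      ⟨fun i j h => ?_, ?_⟩).symm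
    · have h1 := congrFun (congrArg (fun x : {a : S // ∃ j, a.1 j = n} => x.1.1) h) i
      by_contra hne
      simp [Pi.single_eq_of_ne hne] at h1
      omega
    · rintro ⟨⟨a, ha⟩, j, hj⟩
      refine ⟨j, Subtype.ext (Subtype.ext (funext fun i => ?_))⟩
      rcases eq_or_ne i j with rfl | hne
      · simpa using hj.symm
      · have h1 : a i + a j ≤ n := by
          rw [← Finset.sum_pair hne, ← ha]
          exact Finset.sum_le_sum_of_subset (Finset.subset_univ _)
        simp only at hj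
        show (Pi.single j n : ZMod r → ℕ) i = a i
        rw [Pi.single_eq_of_ne hne]
        omega
  let e : Types r n ≃ {a : S // ¬ ∃ j, a.1 j = n} :=
    { toFun := fun a => ⟨⟨a.1, a.2.1⟩, fun ⟨j, hj⟩ => a.2.2 j hj⟩
      invFun := fun a => ⟨a.1.1, a.1.2, fun j hj => a.2 ⟨j, hj⟩⟩
      left_inv := fun _ => rfl
      right_inv := fun _ => rfl }
  rw [Nat.card_congr e, Nat.card_eq_fintype_card, Fintype.card_subtype_compl, hS, hsc]

theorem card_fixed [Fact r.Prime] (hn : 1 ≤ n) (s : Multiplicative (ZMod r)) (hs : s ≠ 1) :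
    Nat.card (MulAction.fixedBy (Types r n) s) = if r ∣ n then 1 else 0 := by
  have hr := (Fact.out : r.Prime).two_le
  have hconst : ∀ a : Types r n, s • a = a → ∀ j, a.1 j = a.1 0 := by
    intro a ha j
    have hs0 : s.toAdd ≠ 0 := fun h => hs (Multiplicative.toAdd.injective (by rw [h]; rfl))
    have hk : ∀ k : ℕ, a.1 (k * s.toAdd) = a.1 0 := by
      intro k
      induction k with
      | zero => simp
      | succ k ih =>
        rw [← ih]
        have h := congrFun (congrArg Subtype.val ha) ((k + 1 : ℕ) * s.toAdd)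
        rw [smul_apply] at h
        rw [← h]
        congr 1
        push_cast
        ring_nf
    have h := hk (j / s.toAdd).val
    rwa [ZMod.natCast_zmod_val, div_mul_cancel₀ _ hs0] at h
  split_ifs with h
  · rw [Nat.card_eq_one_iff_unique]
    refine ⟨⟨fun a b => Subtype.ext (Subtype.ext (funext fun j => ?_))⟩, ⟨⟨⟨fun _ => n / r, ?_, fun _ => ?_⟩, ?_⟩⟩⟩
    · have h1 := a.1.2.1
      have h2 := b.1.2.1
      simp only [hconst a.1 a.2, Finset.sum_const, Finset.card_univ, ZMod.card, smul_eq_mul] at h1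
      simp only [hconst b.1 b.2, Finset.sum_const, Finset.card_univ, ZMod.card, smul_eq_mul] at h2
      rw [hconst a.1 a.2 j, hconst b.1 b.2 j]
      exact Nat.eq_of_mul_eq_mul_left (by omega : 0 < r) (h1.trans h2.symm)
    · simp [Finset.card_univ, ZMod.card, Nat.mul_div_cancel' h]
    · have h1 := Nat.div_lt_self (by omega : 0 < n) (show 1 < r by omega)
      show n / r ≠ n
      omega
    · exact Subtype.ext (funext fun _ => rfl)
  · rw [Nat.card_eq_zero]
    refine Or.inl ⟨fun a => h ⟨a.1.1 0, ?_⟩⟩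
    have h1 := a.1.2.1
    simp only [hconst a.1 a.2, Finset.sum_const, Finset.card_univ, ZMod.card, smul_eq_mul] at h1
    exact h1.symm

theorem card_orbits [Fact r.Prime] (hn : 1 ≤ n) :
    Nat.card (MulAction.orbitRel.Quotient (Multiplicative (ZMod r)) (Types r n)) * r =
      ((n + r - 1).choose (r - 1) - r) + (r - 1) * if r ∣ n then 1 else 0 := by
  classical
  letI := Fintype.ofFinite (Types r n)
  have h := MulAction.sum_card_fixedBy_eq_card_orbits_mul_card_group (Multiplicative (ZMod r)) (Types r n)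
  rw [Fintype.card_multiplicative, ZMod.card] at h
  rw [Nat.card_eq_fintype_card, ← h, ← Finset.add_sum_erase _ _ (Finset.mem_univ (1 : Multiplicative (ZMod r))),
    Finset.sum_congr rfl (g := fun _ => if r ∣ n then 1 else 0) fun s hs => by
      rw [← Nat.card_eq_fintype_card]
      exact card_fixed r n hn s (Finset.ne_of_mem_erase hs),
    Finset.sum_const, Finset.card_erase_of_mem (Finset.mem_univ _), Finset.card_univ, Fintype.card_multiplicative,
    ZMod.card, smul_eq_mul, ← Nat.card_eq_fintype_card, MulAction.fixedBy_one_eq_univ, Nat.card_univ, card_types r n hn]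

variable {F : Type*} [Field F] {r n}

/-- Multiplication by a scalar. -/
noncomputable def sm (c : Fˣ) (g : GL (Fin n) F) : GL (Fin n) F := Matrix.GeneralLinearGroup.scalar (Fin n) c * g

theorem sm_val (c : Fˣ) (g : GL (Fin n) F) :
    ((sm c g : GL (Fin n) F) : Matrix (Fin n) (Fin n) F) = (c : F) • (g : Matrix (Fin n) (Fin n) F) := by
  rw [sm, Units.val_mul, Matrix.smul_eq_diagonal_mul]
  rfl

theorem pow_smul (c : F) (M : Matrix (Fin n) (Fin n) F) (k : ℕ) : (c • M) ^ k = c ^ k • M ^ k :=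
  _root_.smul_pow c M k

theorem smul_one_inj (hn : 1 ≤ n) {a b : F} (h : a • (1 : Matrix (Fin n) (Fin n) F) = b • 1) : a = b := by
  have h0 := congrFun (congrFun h ⟨0, hn⟩) ⟨0, hn⟩
  simpa using h0

theorem exists_of_order_r [Fintype F] (hn : 1 ≤ n) (hr : r.Prime) (g : GL (Fin n) F) :
    orderOf (QuotientGroup.mk g : GL (Fin n) F ⧸ Subgroup.center (GL (Fin n) F)) = r ↔
      (∃ c : Fˣ, (g : Matrix (Fin n) (Fin n) F) ^ r = (c : F) • 1) ∧
        ∀ d : F, (g : Matrix (Fin n) (Fin n) F) ≠ d • 1 := by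
  haveI := Fact.mk hr
  rw [orderOf_eq_prime_iff, ← QuotientGroup.mk_pow]
  refine and_congr ?_ ?_
  · rw [eq_comm (a := (QuotientGroup.mk (g ^ r) : GL (Fin n) F ⧸ _)), ← QuotientGroup.mk_one,
      PGLInvolutions.mk_eq_mk_iff, Units.val_pow_eq_pow_val, Units.val_one]
  · constructor
    · intro h d hd
      have hd0 : d ≠ 0 := by
        rintro rfl
        rw [zero_smul] at hd
        have h0 := g.mul_inv
        rw [hd, Matrix.zero_mul] at h0
        exact zero_ne_one (congrFun (congrFun h0 ⟨0, hn⟩) ⟨0, hn⟩ |>.trans (Matrix.one_apply_eq _))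
      refine h ?_
      rw [← QuotientGroup.mk_one, eq_comm, PGLInvolutions.mk_eq_mk_iff]
      exact ⟨Units.mk0 d hd0, by simpa using hd⟩
    · intro h h1
      rw [← QuotientGroup.mk_one, eq_comm, PGLInvolutions.mk_eq_mk_iff] at h1
      obtain ⟨c, hc⟩ := h1
      exact h c (by simpa using hc)

variable [NeZero r] {ζ : F}

/-- The linear factors. -/
noncomputable def lin (ζ : F) (r : ℕ) (j : ZMod r) : F[X] := X - C (ζ ^ j.val)

theorem lin_facts (hζ : IsPrimitiveRoot ζ r) :
    (∀ j, Irreducible (lin ζ r j)) ∧ (Pairwise fun i j => IsCoprime (lin ζ r i) (lin ζ r j)) ∧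
      (∀ j, ¬ X ∣ lin ζ r j) ∧ ∏ j, lin ζ r j = X ^ r - 1 := by
  have hinj : Function.Injective fun j : ZMod r => ζ ^ j.val := fun i j h =>
    ZMod.val_injective r (hζ.pow_inj (ZMod.val_lt i) (ZMod.val_lt j) h)
  refine ⟨fun j => irreducible_X_sub_C _, pairwise_coprime_X_sub_C hinj, fun j => ?_, ?_⟩
  · rw [lin, X_dvd_iff, coeff_sub, coeff_X_zero, coeff_C_zero, zero_sub, neg_eq_zero]
    exact pow_ne_zero _ (hζ.ne_zero (NeZero.ne r))
  · classical
    rw [X_pow_sub_one_eq_prod (Nat.pos_of_ne_zero (NeZero.ne r)) hζ]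
    refine Finset.prod_bij (fun j _ => ζ ^ j.val) ?_ (fun i _ j _ h => hinj h) ?_ (fun _ _ => rfl)
    · intro j _
      rw [mem_nthRootsFinset (Nat.pos_of_ne_zero (NeZero.ne r)), ← pow_mul, mul_comm, pow_mul, hζ.pow_eq_one, one_pow]
    · intro x hx
      rw [mem_nthRootsFinset (Nat.pos_of_ne_zero (NeZero.ne r))] at hx
      obtain ⟨i, hi, rfl⟩ := hζ.eq_pow_of_pow_eq_one hx
      exact ⟨(i : ZMod r), Finset.mem_univ _, by rw [ZMod.val_natCast, Nat.mod_eq_of_lt hi]⟩

theorem killed_iff (hζ : IsPrimitiveRoot ζ r) (g : GL (Fin n) F) :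
    aeval (g : Matrix (Fin n) (Fin n) F) (∏ j, lin ζ r j) = 0 ↔ (g : Matrix (Fin n) (Fin n) F) ^ r = 1 := by
  rw [(lin_facts hζ).2.2.2, map_sub, map_pow, aeval_X, map_one, sub_eq_zero]

theorem mult_lin (g : GL (Fin n) F) (j : ZMod r) : mult (lin ζ r) g j =
    finrank F (LinearMap.ker (Matrix.toLin' (g : Matrix (Fin n) (Fin n) F) - ζ ^ j.val • 1)) := by
  rw [mult, SemisimpleClasses.comp, lin, natDegree_X_sub_C, Nat.div_one, map_sub, aeval_X, aeval_C, Algebra.algebraMap_eq_smul_one]

theorem mult_scale (hζ : IsPrimitiveRoot ζ r) {c : Fˣ} {s : ZMod r} (hc : (c : F) = ζ ^ s.val)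
    (g : GL (Fin n) F) (j : ZMod r) : mult (lin ζ r) (sm c g) j = mult (lin ζ r) g (j - s) := by
  rw [mult_lin, mult_lin, sm_val]
  have h : ζ ^ j.val = (c : F) * ζ ^ (j - s).val := by
    rw [hc, ← pow_add]
    conv_lhs => rw [show j = s + (j - s) by abel, ZMod.val_add]
    exact (pow_eq_pow_mod _ hζ.pow_eq_one).symm
  rw [h, map_smul, mul_smul]
  have e : (c : F) • Matrix.toLin' (g : Matrix (Fin n) (Fin n) F) -
      (c : F) • ((ζ ^ (j - s).val) • (1 : Module.End F (Fin n → F))) =
      (c : F) • (Matrix.toLin' (g : Matrix (Fin n) (Fin n) F) - (ζ ^ (j - s).val) • 1) :=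
    (smul_sub _ _ _).symm
  exact (congrArg (fun T : Module.End F (Fin n → F) => finrank F (LinearMap.ker T)) e).trans
    (by rw [LinearMap.ker_smul _ _ c.ne_zero])

theorem scalar_iff (hn : 1 ≤ n) (hζ : IsPrimitiveRoot ζ r) {g : GL (Fin n) F}
    (hg : (g : Matrix (Fin n) (Fin n) F) ^ r = 1) :
    (∃ j, mult (lin ζ r) g j = n) ↔ ∃ d : F, (g : Matrix (Fin n) (Fin n) F) = d • 1 := by
  constructor
  · rintro ⟨j, hj⟩
    rw [mult_lin] at hj
    refine ⟨ζ ^ j.val, Matrix.toLin'.injective ?_⟩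
    rw [map_smul, Matrix.toLin'_one]
    have h : LinearMap.ker (Matrix.toLin' (g : Matrix (Fin n) (Fin n) F) - ζ ^ j.val • 1) = ⊤ :=
      Submodule.eq_top_of_finrank_eq (by rw [hj, Module.finrank_fin_fun])
    exact sub_eq_zero.1 (LinearMap.ker_eq_top.1 h)
  · rintro ⟨d, hd⟩
    have hdr : d ^ r = 1 := by
      rw [hd, pow_smul, one_pow] at hg
      exact smul_one_inj hn (by rw [hg, one_smul])
    obtain ⟨i, hi, rfl⟩ := hζ.eq_pow_of_pow_eq_one hdr
    refine ⟨(i : ZMod r), ?_⟩
    have e : Matrix.toLin' ((ζ ^ i) • (1 : Matrix (Fin n) (Fin n) F)) - (ζ ^ i) • (1 : Module.End F (Fin n → F)) = 0 := by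
      refine LinearMap.ext fun x => ?_
      simp
    rw [mult_lin, hd, ZMod.val_natCast, Nat.mod_eq_of_lt hi, e, LinearMap.ker_zero, finrank_top, Module.finrank_fin_fun]

variable [Fintype F]

omit [NeZero r] [Fintype F] in
theorem natDegree_lin (ζ : F) (j : ZMod r) : (lin ζ r j).natDegree = 1 := natDegree_X_sub_C _

/-- The classes of elements of order `r`. -/
theorem card_classes (hn : 1 ≤ n) (hr : r.Prime) (hrq : r ∣ Fintype.card F - 1) :
    Nat.card {C : ConjClasses (GL (Fin n) F ⧸ Subgroup.center (GL (Fin n) F)) //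
        ∃ g : GL (Fin n) F ⧸ Subgroup.center (GL (Fin n) F), ConjClasses.mk g = C ∧ orderOf g = r} =
      ((n + r - 1).choose (r - 1) - r - if r ∣ n then 1 else 0) / r + r * if r ∣ n then 1 else 0 := by
  classical
  haveI := Fact.mk hr
  have hq1 : 0 < Fintype.card F - 1 := by have := Fintype.one_lt_card (α := F); omega
  obtain ⟨ω, hω⟩ := IsCyclic.exists_generator (α := Fˣ)
  have hωo : orderOf ω = Fintype.card F - 1 := by
    rw [orderOf_eq_card_of_forall_mem_zpowers hω, Nat.card_units, Nat.card_eq_fintype_card]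
  obtain ⟨m, hm⟩ := hrq
  have hζ : IsPrimitiveRoot ((ω : F) ^ m) r := by
    have h := IsPrimitiveRoot.orderOf (ω : F)
    rw [orderOf_units, hωo] at h
    exact h.pow hq1 (by rw [hm, mul_comm])
  set ζ := (ω : F) ^ m
  obtain ⟨hirr, hco, h0, -⟩ := lin_facts hζ
  have hpow : ∀ a b : ℕ, (ω : F) ^ a = (ω : F) ^ b → (a : ZMod r) = b := by
    intro a b h
    rw [← Units.val_pow_eq_pow_val, ← Units.val_pow_eq_pow_val, Units.val_inj, pow_eq_pow_iff_modEq, hωo] at h
    exact (ZMod.natCast_eq_natCast_iff _ _ _).2 (h.of_dvd ⟨m, hm⟩)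
  have hlog : ∀ c : Fˣ, ∃ a : ℕ, ω ^ a = c := fun c =>
    (isOfFinOrder_of_finite ω).mem_powers_iff_mem_zpowers.2 (hω c)
  -- representatives of the first kind
  have hrep : ∀ a : Types r n, ∃ g : GL (Fin n) F,
      aeval (g : Matrix (Fin n) (Fin n) F) (∏ j, lin ζ r j) = 0 ∧ ∀ j, mult (lin ζ r) g j = a.1 j := fun a =>
    exists_of_mult hirr hco h0 a.1 (by simp [natDegree_lin, a.2.1])
  choose R hR hRa using hrep
  have hR1 : ∀ a, (R a : Matrix (Fin n) (Fin n) F) ^ r = 1 := fun a => (killed_iff hζ _).1 (hR a)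
  have hRns : ∀ a d, (R a : Matrix (Fin n) (Fin n) F) ≠ d • 1 := fun a d hd => by
    obtain ⟨j, hj⟩ := (scalar_iff hn hζ (hR1 a)).2 ⟨d, hd⟩
    exact a.2.2 j (by rw [← hRa, hj])
  -- representatives of the second kind
  let K := {k : Fin r // (k : ℕ) ≠ 0 ∧ r ∣ n}
  have hirrk : ∀ k : K, Irreducible (X ^ r - C ((ω : F) ^ (k.1 : ℕ))) := fun k => by
    refine X_pow_sub_C_irreducible_of_prime hr fun b hb => ?_
    have hb0 : b ≠ 0 := by
      rintro rfl
      rw [zero_pow hr.ne_zero] at hb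
      exact pow_ne_zero _ ω.ne_zero hb.symm
    obtain ⟨a, ha⟩ := hlog (Units.mk0 b hb0)
    have h1 : (ω : F) ^ a = b := congrArg Units.val ha
    rw [← h1, ← pow_mul] at hb
    have h2 := hpow _ _ hb
    rw [Nat.cast_mul, ZMod.natCast_self, mul_zero, eq_comm, ZMod.natCast_eq_zero_iff] at h2
    exact k.2.1 (Nat.eq_zero_of_dvd_of_lt h2 k.1.2)
  have hrepk : ∀ k : K, ∃ g : GL (Fin n) F,
      (g : Matrix (Fin n) (Fin n) F) ^ r = (ω : F) ^ (k.1 : ℕ) • 1 := fun k => by
    obtain ⟨g, hg, -⟩ := exists_of_mult (f := fun _ : Unit => X ^ r - C ((ω : F) ^ (k.1 : ℕ))) (n := n)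
      (fun _ => hirrk k) (fun i j h => absurd (Subsingleton.elim i j) h)
      (fun _ => by
        rw [X_dvd_iff, coeff_sub, coeff_X_pow, if_neg hr.ne_zero.symm, coeff_C_zero, zero_sub, neg_eq_zero]
        exact pow_ne_zero _ ω.ne_zero)
      (fun _ => n / r) (by
        rw [Finset.univ_unique, Finset.sum_singleton, natDegree_X_pow_sub_C, Nat.div_mul_cancel k.2.2])
    refine ⟨g, ?_⟩
    rw [Finset.univ_unique, Finset.prod_singleton, map_sub, map_pow, aeval_X, aeval_C,
      Algebra.algebraMap_eq_smul_one, sub_eq_zero] at hg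
    exact hg
  choose J hJ using hrepk
  have hJns : ∀ k d, (J k : Matrix (Fin n) (Fin n) F) ≠ d • 1 := fun k d hd => by
    have h := hJ k
    rw [hd, pow_smul, one_pow] at h
    have h1 := smul_one_inj hn h
    have h2 : (X - C d) ∣ (X ^ r - C ((ω : F) ^ (k.1 : ℕ))) := by
      rw [dvd_iff_isRoot]
      simp [h1]
    obtain ⟨c, hc⟩ := h2
    rcases (hirrk k).isUnit_or_isUnit hc with hu | hu
    · exact not_isUnit_X_sub_C d hu
    · have := congrArg natDegree hc
      rw [natDegree_X_pow_sub_C, natDegree_mul (X_sub_C_ne_zero d) hu.ne_zero, natDegree_eq_zero_of_isUnit hu,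
        natDegree_X_sub_C, add_zero] at this
      exact hr.ne_one this
  let Cls := {C : ConjClasses (GL (Fin n) F ⧸ Subgroup.center (GL (Fin n) F)) //
    ∃ g : GL (Fin n) F ⧸ Subgroup.center (GL (Fin n) F), ConjClasses.mk g = C ∧ orderOf g = r}
  let cls : ∀ g : GL (Fin n) F, orderOf (QuotientGroup.mk g : GL (Fin n) F ⧸ Subgroup.center (GL (Fin n) F)) = r →
      Cls := fun g hg => ⟨ConjClasses.mk (QuotientGroup.mk g), _, rfl, hg⟩
  have cls_eq : ∀ g hg h hh, cls g hg = cls h hh ↔ ∃ (u : GL (Fin n) F) (c : Fˣ), h = sm c (u * g * u⁻¹) := by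
    intro g hg h hh
    rw [Subtype.ext_iff, ConjClasses.mk_eq_mk_iff_isConj, PGLInvolutions.isConj_mk_iff]
    refine exists_congr fun u => exists_congr fun c => ⟨fun e => Units.ext (by rw [sm_val]; exact e),
      fun e => by rw [e, sm_val]⟩
  have hordR : ∀ a, orderOf (QuotientGroup.mk (R a) : GL (Fin n) F ⧸ Subgroup.center (GL (Fin n) F)) = r :=
    fun a => (exists_of_order_r hn hr _).2 ⟨⟨1, by simp [hR1]⟩, hRns a⟩
  have hordJ : ∀ k, orderOf (QuotientGroup.mk (J k) : GL (Fin n) F ⧸ Subgroup.center (GL (Fin n) F)) = r :=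
    fun k => (exists_of_order_r hn hr _).2 ⟨⟨ω ^ (k.1 : ℕ), by rw [hJ, Units.val_pow_eq_pow_val]⟩, hJns k⟩
  have conj_pow' : ∀ (u g : GL (Fin n) F) (c : Fˣ) (e : F), (g : Matrix (Fin n) (Fin n) F) ^ r = e • 1 →
      (sm c (u * g * u⁻¹) : Matrix (Fin n) (Fin n) F) ^ r = ((c : F) ^ r * e) • 1 := by
    intro u g c e he
    rw [sm_val, pow_smul, ← Units.val_pow_eq_pow_val (u * g * u⁻¹), conj_pow, Units.val_mul, Units.val_mul,
      Units.val_pow_eq_pow_val, he, mul_smul_comm, mul_one, smul_mul_assoc, Units.mul_inv, smul_smul]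
  have hroot : ∀ c : Fˣ, (c : F) ^ r = 1 → ∃ s : ZMod r, (c : F) = ζ ^ s.val := by
    intro c hc
    obtain ⟨i, hi, hic⟩ := hζ.eq_pow_of_pow_eq_one hc
    exact ⟨(i : ZMod r), by rw [ZMod.val_natCast, Nat.mod_eq_of_lt hi, hic]⟩
  have hmult : ∀ (u g : GL (Fin n) F) (c : Fˣ) (s : ZMod r), (c : F) = ζ ^ s.val → ∀ j,
      mult (lin ζ r) (sm c (u * g * u⁻¹)) j = mult (lin ζ r) g (j - s) := by
    intro u g c s hs j
    rw [mult_scale hζ hs, mult, mult, finrank_comp_conj (isConj_iff.2 ⟨u, rfl⟩)]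
  have hwell : ∀ a b : Types r n, MulAction.orbitRel (Multiplicative (ZMod r)) (Types r n) a b →
      cls (R a) (hordR a) = cls (R b) (hordR b) := by
    intro a b hab
    rw [MulAction.orbitRel_apply, MulAction.mem_orbit_iff] at hab
    obtain ⟨s, hs⟩ := hab
    symm
    let c : Fˣ := Units.mk0 (ζ ^ s.toAdd.val) (pow_ne_zero _ (hζ.ne_zero hr.ne_zero))
    have hk : aeval (sm c (R b) : Matrix (Fin n) (Fin n) F) (∏ j, lin ζ r j) = 0 := by
      rw [killed_iff hζ, sm_val, pow_smul, hR1, show (c : F) = ζ ^ s.toAdd.val from rfl, ← pow_mul, mul_comm,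
        pow_mul, hζ.pow_eq_one, one_pow, one_smul]
    have hconj : IsConj (sm c (R b)) (R a) := isConj_of_mult_eq hirr hco hk (hR a) fun j => by
      rw [mult_scale hζ rfl, hRa, hRa, ← hs, smul_apply]
    obtain ⟨u, hu⟩ := isConj_iff.1 hconj
    refine (cls_eq _ (hordR b) _ (hordR a)).2 ⟨u, c, ?_⟩
    rw [← hu]
    refine Units.ext ?_
    rw [sm_val, Units.val_mul, Units.val_mul, sm_val, Units.val_mul, Units.val_mul, mul_smul_comm, smul_mul_assoc]
  let Φ : MulAction.orbitRel.Quotient (Multiplicative (ZMod r)) (Types r n) ⊕ K → Cls :=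
    Sum.elim (Quotient.lift (fun a => cls (R a) (hordR a)) hwell) fun k => cls (J k) (hordJ k)
  have hΦ : Function.Bijective Φ := by
    constructor
    · rintro (x | k) (y | l) h
      · induction x using Quotient.ind with
        | _ a =>
        induction y using Quotient.ind with
        | _ b =>
        obtain ⟨u, c, hc⟩ := (cls_eq _ (hordR a) _ (hordR b)).1 h
        have h1 := hR1 b
        rw [hc, conj_pow' u _ c 1 (by rw [hR1, one_smul]), mul_one] at h1
        obtain ⟨s, hs⟩ := hroot c (smul_one_inj hn (h1.trans (one_smul F _).symm))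
        refine congrArg Sum.inl (Quotient.sound ?_).symm
        refine MulAction.mem_orbit_iff.2 ⟨Multiplicative.ofAdd s, Subtype.ext (funext fun j => ?_)⟩
        rw [smul_apply, ← hRa b, hc, hmult u _ c s hs, hRa]
        rfl
      · induction x using Quotient.ind with
        | _ a =>
        exfalso
        obtain ⟨u, c, hc⟩ := (cls_eq _ (hordR a) _ (hordJ l)).1 h
        have h1 := hJ l
        rw [hc, conj_pow' u _ c 1 (by rw [hR1, one_smul]), mul_one] at h1
        have h2 := smul_one_inj hn h1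
        obtain ⟨e, he⟩ := hlog c
        rw [← he, Units.val_pow_eq_pow_val, ← pow_mul] at h2
        have h3 := hpow _ _ h2
        rw [Nat.cast_mul, ZMod.natCast_self, mul_zero, eq_comm, ZMod.natCast_eq_zero_iff] at h3
        exact l.2.1 (Nat.eq_zero_of_dvd_of_lt h3 l.1.2)
      · induction y using Quotient.ind with
        | _ b =>
        exfalso
        obtain ⟨u, c, hc⟩ := (cls_eq _ (hordJ k) _ (hordR b)).1 h
        have h1 := hR1 b
        rw [hc, conj_pow' u _ c _ (hJ k)] at h1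
        have h2 := smul_one_inj hn (h1.trans (one_smul F _).symm)
        obtain ⟨e, he⟩ := hlog c
        rw [← he, Units.val_pow_eq_pow_val, ← pow_mul, ← pow_add, ← pow_zero (ω : F)] at h2
        have h3 := hpow _ _ h2
        rw [Nat.cast_add, Nat.cast_mul, ZMod.natCast_self, mul_zero, zero_add, Nat.cast_zero,
          ZMod.natCast_eq_zero_iff] at h3
        exact k.2.1 (Nat.eq_zero_of_dvd_of_lt h3 k.1.2)
      · obtain ⟨u, c, hc⟩ := (cls_eq _ (hordJ k) _ (hordJ l)).1 h
        have h1 := hJ l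
        rw [hc, conj_pow' u _ c _ (hJ k)] at h1
        have h2 := smul_one_inj hn h1
        obtain ⟨e, he⟩ := hlog c
        rw [← he, Units.val_pow_eq_pow_val, ← pow_mul, ← pow_add] at h2
        have h3 := hpow _ _ h2
        rw [Nat.cast_add, Nat.cast_mul, ZMod.natCast_self, mul_zero, zero_add,
          ZMod.natCast_eq_natCast_iff] at h3
        exact congrArg Sum.inr (Subtype.ext (Fin.ext (Nat.ModEq.eq_of_lt_of_lt h3 k.1.2 l.1.2)))
    · rintro ⟨C', x, rfl, hx⟩
      obtain ⟨g, rfl⟩ := QuotientGroup.mk_surjective x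
      obtain ⟨⟨c, hc⟩, hns⟩ := (exists_of_order_r hn hr g).1 hx
      obtain ⟨e, he⟩ := hlog c
      set d : Fˣ := (ω ^ (e / r))⁻¹
      have hg' : (sm d g : Matrix (Fin n) (Fin n) F) ^ r = (ω : F) ^ (e % r) • 1 := by
        rw [sm_val, pow_smul, hc, smul_smul, ← he]
        congr 1
        rw [← Units.val_pow_eq_pow_val, ← Units.val_mul, ← Units.val_pow_eq_pow_val]
        congr 1
        rw [inv_pow, inv_mul_eq_iff_eq_mul, ← pow_mul, ← pow_add, Nat.div_add_mod' e r]
      have hns' : ∀ z : F, (sm d g : Matrix (Fin n) (Fin n) F) ≠ z • 1 := fun z hz => by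
        rw [sm_val] at hz
        refine hns ((d : F)⁻¹ * z) ?_
        rw [mul_smul, ← hz, smul_smul, inv_mul_cancel₀ d.ne_zero, one_smul]
      let g' : MulAction.orbitRel.Quotient (Multiplicative (ZMod r)) (Types r n) ⊕ K → Set (GL (Fin n) F) :=
        Sum.elim (fun x => R '' {a | ⟦a⟧ = x}) fun k => {J k}
      have hfin : ∀ y, (∃ u, ∃ g₀ ∈ g' y, u * g₀ * u⁻¹ = sm d g) → ∃ x, Φ x = ⟨ConjClasses.mk (QuotientGroup.mk g), _, rfl, hx⟩ := by
        intro y ⟨u, g₀, hg₀, hu⟩
        refine ⟨y, ?_⟩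
        have key : ∀ (g₀ : GL (Fin n) F) (h₀), u * g₀ * u⁻¹ = sm d g → cls g₀ h₀ = cls g hx := by
          intro g₀ h₀ he₀
          refine (cls_eq g₀ h₀ g hx).2 ⟨u, d⁻¹, ?_⟩
          rw [he₀]
          refine Units.ext ?_
          rw [sm_val, sm_val, smul_smul, ← Units.val_mul, inv_mul_cancel, Units.val_one, one_smul]
        rcases y with y | y
        · obtain ⟨a, ha, rfl⟩ := hg₀
          simp only [Set.mem_setOf_eq] at ha
          subst ha
          exact key _ (hordR a) hu
        · obtain rfl : g₀ = J y := hg₀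
          exact key _ (hordJ y) hu
      rcases Nat.eq_zero_or_pos (e % r) with h0' | hpos
      · rw [h0', pow_zero, one_smul] at hg'
        let a : Types r n := ⟨mult (lin ζ r) (sm d g), by
          simpa [natDegree_lin] using sum_mult hirr hco ((killed_iff hζ _).2 hg'), fun j hj => by
          obtain ⟨z, hz⟩ := (scalar_iff hn hζ hg').1 ⟨j, hj⟩
          exact hns' z hz⟩
        obtain ⟨u, hu⟩ := isConj_iff.1
          (isConj_of_mult_eq hirr hco (hR a) ((killed_iff hζ _).2 hg') (hRa a))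
        exact hfin (Sum.inl ⟦a⟧) ⟨u, R a, ⟨a, rfl, rfl⟩, hu⟩
      · have hk : (⟨e % r, Nat.mod_lt _ hr.pos⟩ : Fin r).1 ≠ 0 := Nat.pos_iff_ne_zero.1 hpos
        have hirr1 : Irreducible (X ^ r - C ((ω : F) ^ (e % r))) := by
          refine X_pow_sub_C_irreducible_of_prime hr fun b hb => ?_
          have hb0 : b ≠ 0 := by
            rintro rfl
            rw [zero_pow hr.ne_zero] at hb
            exact pow_ne_zero _ ω.ne_zero hb.symm
          obtain ⟨a, ha⟩ := hlog (Units.mk0 b hb0)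
          have h1 : (ω : F) ^ a = b := congrArg Units.val ha
          rw [← h1, ← pow_mul] at hb
          have h2 := hpow _ _ hb
          rw [Nat.cast_mul, ZMod.natCast_self, mul_zero, eq_comm, ZMod.natCast_eq_zero_iff] at h2
          exact hk (Nat.eq_zero_of_dvd_of_lt h2 (Nat.mod_lt _ hr.pos))
        let f1 := fun _ : Unit => X ^ r - C ((ω : F) ^ (e % r))
        have hco1 : Pairwise fun i j => IsCoprime (f1 i) (f1 j) := fun i j h => absurd (Subsingleton.elim i j) h
        have hkill : ∀ M : GL (Fin n) F, (M : Matrix (Fin n) (Fin n) F) ^ r = (ω : F) ^ (e % r) • 1 →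
            aeval (M : Matrix (Fin n) (Fin n) F) (∏ i, f1 i) = 0 := by
          intro M hM
          rw [Finset.univ_unique, Finset.prod_singleton, map_sub, map_pow, aeval_X, aeval_C,
            Algebra.algebraMap_eq_smul_one, hM, sub_self]
        have hsum := sum_mult (fun _ => hirr1) hco1 (hkill _ hg')
        simp only [Finset.univ_unique, Finset.sum_singleton, f1, natDegree_X_pow_sub_C] at hsum
        let k : K := ⟨⟨e % r, Nat.mod_lt _ hr.pos⟩, hk, Dvd.intro_left _ hsum⟩
        obtain ⟨u, hu⟩ := isConj_iff.1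
          (isConj_of_mult_eq (fun _ => hirr1) hco1 (hkill _ (hJ k)) (hkill _ hg') fun i => by
            have h1 := sum_mult (fun _ => hirr1) hco1 (hkill _ (hJ k))
            simp only [Finset.univ_unique, Finset.sum_singleton, f1, natDegree_X_pow_sub_C] at h1
            exact Nat.eq_of_mul_eq_mul_right hr.pos (h1.trans hsum.symm))
        exact hfin (Sum.inr k) ⟨u, J k, rfl, hu⟩
  have hK : Nat.card K = (r - 1) * if r ∣ n then 1 else 0 := by
    split_ifs with h
    · rw [mul_one, Nat.card_eq_fintype_card, Fintype.card_congr (Equiv.subtypeEquivRight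
        (q := fun k : Fin r => ¬ k = 0) fun k => ⟨fun h' hk => h'.1 (congrArg Fin.val hk),
          fun hk => ⟨fun e => hk (Fin.ext e), h⟩⟩), Fintype.card_subtype_compl,
        Fintype.card_fin, Fintype.card_subtype_eq]
    · rw [mul_zero, Nat.card_eq_zero]
      exact Or.inl ⟨fun k => h k.2.2⟩
  have hO := card_orbits r n hn
  rw [← Nat.card_congr (Equiv.ofBijective Φ hΦ), Nat.card_sum, hK]
  set O := Nat.card (MulAction.orbitRel.Quotient (Multiplicative (ZMod r)) (Types r n))
  have hle : (if r ∣ n then 1 else 0) ≤ O ∧ (if r ∣ n then 1 else 0) ≤ (n + r - 1).choose (r - 1) - r := by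
    split_ifs with h
    · have hne : Nonempty (Types r n) := ⟨⟨fun _ => n / r, by simp [Finset.card_univ, ZMod.card, Nat.mul_div_cancel' h],
        fun _ => by
          have h1 := Nat.div_lt_self (by omega : 0 < n) hr.one_lt
          show n / r ≠ n
          omega⟩⟩
      refine ⟨?_, ?_⟩
      · haveI : Finite (MulAction.orbitRel.Quotient (Multiplicative (ZMod r)) (Types r n)) :=
          Finite.of_surjective _ Quotient.mk_surjective
        haveI : Nonempty (MulAction.orbitRel.Quotient (Multiplicative (ZMod r)) (Types r n)) := ⟨Quotient.mk _ hne.some⟩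
        exact Nat.card_pos
      · rw [← card_types r n hn]
        exact Nat.card_pos
    · simp
  obtain ⟨r', rfl⟩ : ∃ r', r = r' + 1 := ⟨r - 1, by have := hr.pos; omega⟩
  split_ifs at hO hle ⊢ with h
  · obtain ⟨O', hO'⟩ : ∃ O', O = O' + 1 := ⟨O - 1, by omega⟩
    rw [hO'] at hO ⊢
    have e1 : (n + (r' + 1) - 1).choose (r' + 1 - 1) - (r' + 1) - 1 = (r' + 1) * O' := by
      simp only [Nat.add_sub_cancel, mul_one] at hO ⊢
      have : (O' + 1) * (r' + 1) = (r' + 1) * O' + r' + 1 := by ring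
      omega
    rw [e1, Nat.mul_div_cancel_left _ (by omega : 0 < r' + 1)]
    omega
  · simp only [mul_zero, add_zero, Nat.sub_zero] at hO ⊢
    rw [← hO, Nat.mul_div_cancel _ (by omega : 0 < r' + 1)]

end CfsgLib.KnownC.PGLPrime
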