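import Cfsg.Agent.Lib.KnownC.PGLPrime.Basic
import Cfsg.Agent.Lib.KnownC.GUConj
import Cfsg.Agent.Lib.Classical.HermMatrix

/-!
# Classes of elements of odd prime order dividing `q + 1` in `PGU_n(q)`
-/

set_option autoImplicit false

namespace CfsgLib.KnownC.PGUPrime

open Polynomial Module CfsgLib.KnownC.SemisimpleClasses CfsgLib.KnownC.PGLPrime

variable {F : Type*} [Field F] [Fintype F] {q r n : ℕ}

theorem mem_gu_scalar {σ : F →+* F} (hF : Fintype.card F = q ^ 2) (hσ : ∀ x, σ x = x ^ q) (c : Fˣ)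
    (hc : c ^ (q + 1) = 1) : sm c (1 : GL (Fin n) F) ∈ Cfsg.GU n F q := by
  have e : sm c (1 : GL (Fin n) F) = Classical.diagGL fun _ => c := Units.ext (by
    rw [sm_val, Units.val_one]
    show _ = Matrix.diagonal fun _ => (c : F)
    ext i j
    simp [Matrix.one_apply, Matrix.diagonal_apply])
  rw [e]
  refine Classical.diagGL_mem_GU hσ _ fun _ => Units.ext ?_
  rw [Classical.normHom_apply, hσ, Units.val_one, ← pow_succ', ← Units.val_pow_eq_pow_val, hc, Units.val_one]

theorem sm_eq (c : Fˣ) (g : GL (Fin n) F) : sm c g = sm c 1 * g := by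
  rw [sm, sm, mul_one]

theorem mk_eq_mk_iff (hF : Fintype.card F = q ^ 2) (hn : 2 ≤ n) (g h : ↥(Cfsg.GU n F q)) :
    (QuotientGroup.mk g : ↥(Cfsg.GU n F q) ⧸ Subgroup.center ↥(Cfsg.GU n F q)) = QuotientGroup.mk h ↔
      ∃ c : Fˣ, c ^ (q + 1) = 1 ∧ (h : GL (Fin n) F) = sm c g := by
  obtain ⟨σ, hσ, -⟩ := Classical.exists_frob hF
  rw [QuotientGroup.eq]
  constructor
  · intro hz
    obtain ⟨c, hc⟩ := Classical.gu_center_scalar hF hn hz
    have hc0 : c ≠ 0 := by
      rintro rfl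
      rw [zero_smul] at hc
      haveI : Nonempty (Fin n) := ⟨⟨0, by omega⟩⟩
      exact (Units.ne_zero ((g⁻¹ * h : ↥(Cfsg.GU n F q)) : GL (Fin n) F).det)
        (by rw [Matrix.GeneralLinearGroup.val_det_apply, hc, Matrix.det_zero])
    have e : ((g⁻¹ * h : ↥(Cfsg.GU n F q)) : GL (Fin n) F) = sm (Units.mk0 c hc0) 1 :=
      Units.ext (by rw [sm_val, Units.val_one]; exact hc)
    refine ⟨Units.mk0 c hc0, ?_, ?_⟩
    · have hm := (g⁻¹ * h).2
      rw [e] at hm
      have h2 := (Classical.mem_GU_iff hσ).1 hm (Pi.single (⟨0, by omega⟩ : Fin n) 1)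
        (Pi.single (⟨0, by omega⟩ : Fin n) 1)
      rw [sm_val, Units.val_one, Matrix.smul_mulVec, Matrix.one_mulVec, map_smul, map_smulₛₗ,
        LinearMap.smul_apply, smul_eq_mul, smul_eq_mul, hσ] at h2
      simp only [Classical.stdHerm_apply, Pi.single_apply, apply_ite (σ : F → F), map_one, map_zero] at h2
      simp at h2
      exact Units.ext (by rw [Units.val_pow_eq_pow_val, Units.val_mk0, Units.val_one, pow_succ]; linear_combination h2)
    · rw [Subgroup.coe_mul, Subgroup.coe_inv, inv_mul_eq_iff_eq_mul] at e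
      rw [e]
      refine Units.ext ?_
      rw [Units.val_mul, sm_val, sm_val, Units.val_one, mul_smul_comm, mul_one]
  · rintro ⟨c, hc, hh⟩
    have e : g⁻¹ * h = ⟨sm c 1, mem_gu_scalar hF hσ c hc⟩ := by
      refine Subtype.ext ?_
      rw [Subgroup.coe_mul, Subgroup.coe_inv, hh, inv_mul_eq_iff_eq_mul]
      refine Units.ext ?_
      rw [Units.val_mul, sm_val, sm_val, Units.val_one, mul_smul_comm, mul_one]
    rw [e, Subgroup.mem_center_iff]
    intro x
    refine Subtype.ext (Units.ext ?_)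
    simp [sm_val]

theorem isConj_mk_iff (hF : Fintype.card F = q ^ 2) (hn : 2 ≤ n) (g h : ↥(Cfsg.GU n F q)) :
    IsConj (QuotientGroup.mk g : ↥(Cfsg.GU n F q) ⧸ Subgroup.center ↥(Cfsg.GU n F q)) (QuotientGroup.mk h) ↔
      ∃ (u : GL (Fin n) F) (c : Fˣ), c ^ (q + 1) = 1 ∧
        (h : GL (Fin n) F) = sm c (u * (g : GL (Fin n) F) * u⁻¹) := by
  obtain ⟨σ, hσ, -⟩ := Classical.exists_frob hF
  rw [isConj_iff]
  constructor
  · rintro ⟨u, hu⟩
    obtain ⟨v, rfl⟩ := QuotientGroup.mk_surjective u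
    rw [← QuotientGroup.mk_inv, ← QuotientGroup.mk_mul, ← QuotientGroup.mk_mul, mk_eq_mk_iff hF hn] at hu
    obtain ⟨c, hc, hh⟩ := hu
    exact ⟨v, c, hc, hh⟩
  · rintro ⟨u, c, hc, hh⟩
    have hm : sm c⁻¹ (h : GL (Fin n) F) ∈ Cfsg.GU n F q := by
      rw [sm_eq]
      exact mul_mem (mem_gu_scalar hF hσ _ (by rw [inv_pow, hc, inv_one])) h.2
    have hg : IsConj (g : GL (Fin n) F) ((⟨_, hm⟩ : ↥(Cfsg.GU n F q)) : GL (Fin n) F) := by
      refine isConj_iff.2 ⟨u, ?_⟩
      show _ = sm c⁻¹ (h : GL (Fin n) F)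
      rw [hh]
      refine Units.ext ?_
      rw [sm_val, sm_val, smul_smul, ← Units.val_mul c⁻¹ c, inv_mul_cancel, Units.val_one, one_smul]
    obtain ⟨v, hv⟩ := isConj_iff.1 ((GUConj.isConj_iff_linear hF g ⟨_, hm⟩).2 hg)
    refine ⟨QuotientGroup.mk v, ?_⟩
    rw [← QuotientGroup.mk_inv, ← QuotientGroup.mk_mul, ← QuotientGroup.mk_mul, mk_eq_mk_iff hF hn, hv]
    refine ⟨c, hc, Units.ext ?_⟩
    rw [sm_val, sm_val, smul_smul, mul_comm, ← Units.val_mul c⁻¹ c, inv_mul_cancel, Units.val_one, one_smul]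

theorem exists_of_order_r (hF : Fintype.card F = q ^ 2) (hn : 2 ≤ n) (hr : r.Prime) (g : ↥(Cfsg.GU n F q)) :
    orderOf (QuotientGroup.mk g : ↥(Cfsg.GU n F q) ⧸ Subgroup.center ↥(Cfsg.GU n F q)) = r ↔
      (∃ c : Fˣ, c ^ (q + 1) = 1 ∧ ((g : GL (Fin n) F) : Matrix (Fin n) (Fin n) F) ^ r = (c : F) • 1) ∧
        ∀ d : F, ((g : GL (Fin n) F) : Matrix (Fin n) (Fin n) F) ≠ d • 1 := by
  haveI := Fact.mk hr
  rw [orderOf_eq_prime_iff, ← QuotientGroup.mk_pow]
  refine and_congr ?_ ?_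
  · rw [eq_comm (a := (QuotientGroup.mk (g ^ r) : ↥(Cfsg.GU n F q) ⧸ _)), ← QuotientGroup.mk_one,
      mk_eq_mk_iff hF hn]
    refine exists_congr fun c => and_congr Iff.rfl ⟨fun e => ?_, fun e => Units.ext ?_⟩
    · have h := congrArg Units.val e
      rw [sm_val, Subgroup.coe_pow, Units.val_pow_eq_pow_val, Subgroup.coe_one, Units.val_one] at h
      exact h
    · rw [sm_val, Subgroup.coe_pow, Units.val_pow_eq_pow_val, Subgroup.coe_one, Units.val_one]
      exact e
  · constructor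
    · intro h d hd
      refine h ?_
      rw [QuotientGroup.eq_one_iff, Subgroup.mem_center_iff]
      intro x
      refine Subtype.ext (Units.ext ?_)
      simp [hd]
    · intro h h1
      rw [QuotientGroup.eq_one_iff] at h1
      obtain ⟨c, hc⟩ := Classical.gu_center_scalar hF hn h1
      exact h c hc

/-- The classes of elements of order `r`. -/
theorem card_classes [NeZero r] (hF : Fintype.card F = q ^ 2) (hn2 : 2 ≤ n) (hr : r.Prime) (hr2 : r ≠ 2)
    (hrq : r ∣ q + 1) :
    Nat.card {C : ConjClasses (↥(Cfsg.GU n F q) ⧸ Subgroup.center ↥(Cfsg.GU n F q)) //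
        ∃ g : ↥(Cfsg.GU n F q) ⧸ Subgroup.center ↥(Cfsg.GU n F q), ConjClasses.mk g = C ∧ orderOf g = r} =
      ((n + r - 1).choose (r - 1) - r - if r ∣ n then 1 else 0) / r + r * if r ∣ n then 1 else 0 := by
  classical
  haveI := Fact.mk hr
  have hn : 1 ≤ n := by omega
  obtain ⟨σ, hσ, hconjσ⟩ := Classical.exists_frob hF
  have hq2 : 2 ≤ q := Classical.two_le_of_card_sq hF
  have hcard1 : Fintype.card F - 1 = (q + 1) * (q - 1) := by
    rw [hF, ← Nat.sq_sub_sq q 1, one_pow]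
  obtain ⟨gen, hgen⟩ := IsCyclic.exists_generator (α := Fˣ)
  have hgo : orderOf gen = Fintype.card F - 1 := by
    rw [orderOf_eq_card_of_forall_mem_zpowers hgen, Nat.card_units, Nat.card_eq_fintype_card]
  obtain ⟨ω, hωdef⟩ : ∃ ω, ω = gen ^ (q - 1) := ⟨_, rfl⟩
  have hωo : orderOf ω = q + 1 := by
    rw [hωdef, orderOf_pow_of_dvd (by omega) ⟨q + 1, by rw [hgo, hcard1, mul_comm]⟩, hgo, hcard1,
      Nat.mul_div_cancel _ (by omega : 0 < q - 1)]
  obtain ⟨m, hm⟩ := hrq
  have hζ : IsPrimitiveRoot ((ω : F) ^ m) r := by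
    have h := IsPrimitiveRoot.orderOf (ω : F)
    rw [orderOf_units, hωo] at h
    exact h.pow (by omega) (by rw [hm, mul_comm])
  set ζ := (ω : F) ^ m
  obtain ⟨hirr, hco, h0, -⟩ := lin_facts hζ
  have hωq : ∀ a : ℕ, (ω ^ a) ^ (q + 1) = 1 := fun a => by
    rw [← pow_mul, mul_comm, pow_mul, ← hωo, pow_orderOf_eq_one, one_pow]
  have hpow : ∀ a b : ℕ, (ω : F) ^ a = (ω : F) ^ b → (a : ZMod r) = b := by
    intro a b h
    rw [← Units.val_pow_eq_pow_val, ← Units.val_pow_eq_pow_val, Units.val_inj, pow_eq_pow_iff_modEq, hωo] at h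
    exact (ZMod.natCast_eq_natCast_iff _ _ _).2 (h.of_dvd ⟨m, hm⟩)
  have hlog : ∀ c : Fˣ, c ^ (q + 1) = 1 → ∃ a : ℕ, ω ^ a = c := by
    intro c hc
    obtain ⟨e, he⟩ := (isOfFinOrder_of_finite gen).mem_powers_iff_mem_zpowers.2 (hgen c)
    have he' : gen ^ e = c := he
    have h1 : orderOf gen ∣ e * (q + 1) := orderOf_dvd_of_pow_eq_one (by rw [pow_mul, he', hc])
    rw [hgo, hcard1, mul_comm e] at h1
    obtain ⟨k, hk⟩ := (Nat.mul_dvd_mul_iff_left (by omega : 0 < q + 1)).1 h1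
    exact ⟨k, by rw [hωdef, ← pow_mul, ← hk, he']⟩
  have hnoroot : ∀ (k : ℕ), k < r → k ≠ 0 → ∀ b : F, b ^ r ≠ (ω : F) ^ k := by
    intro k hk hk0 b hb
    have hb0 : b ≠ 0 := by
      rintro rfl
      rw [zero_pow hr.ne_zero] at hb
      exact pow_ne_zero _ ω.ne_zero hb.symm
    obtain ⟨e, he⟩ := (isOfFinOrder_of_finite gen).mem_powers_iff_mem_zpowers.2 (hgen (Units.mk0 b hb0))
    have h1 : (gen : F) ^ e = b := congrArg Units.val he
    rw [← h1, hωdef, Units.val_pow_eq_pow_val, ← pow_mul, ← pow_mul, ← Units.val_pow_eq_pow_val,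
      ← Units.val_pow_eq_pow_val, Units.val_inj, pow_eq_pow_iff_modEq, hgo] at hb
    have h2 : ((e * r : ℕ) : ZMod r) = ((q - 1) * k : ℕ) :=
      (ZMod.natCast_eq_natCast_iff _ _ _).2 (hb.of_dvd ((dvd_trans ⟨m, hm⟩ (Dvd.intro _ hcard1.symm))))
    rw [Nat.cast_mul, ZMod.natCast_self, mul_zero, eq_comm, ZMod.natCast_eq_zero_iff] at h2
    rcases hr.dvd_mul.1 h2 with h3 | h3
    · have h4 : r ∣ 2 := by
        have := Nat.dvd_sub (Dvd.intro m hm.symm : r ∣ q + 1) h3
        rwa [show q + 1 - (q - 1) = 2 by omega] at this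
      exact hr2 ((Nat.prime_dvd_prime_iff_eq hr Nat.prime_two).1 h4)
    · exact hk0 (Nat.eq_zero_of_dvd_of_lt h3 hk)
  -- representatives of the first kind
  have hrep : ∀ a : Types r n, ∃ g : ↥(Cfsg.GU n F q),
      aeval ((g : GL (Fin n) F) : Matrix (Fin n) (Fin n) F) (∏ j, lin ζ r j) = 0 ∧
        ∀ j, mult (lin ζ r) (g : GL (Fin n) F) j = a.1 j := by
    intro a
    obtain ⟨e⟩ : Nonempty (Fin n ≃ Σ j : ZMod r, Fin (a.1 j)) :=
      ⟨Fintype.equivOfCardEq (by simp [Fintype.card_sigma, a.2.1])⟩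
    let d : Fin n → Fˣ := fun i => (ω ^ m) ^ (e i).1.val
    have hd : ∀ i, (d i : F) = ζ ^ (e i).1.val := fun i => by
      simp [d, ζ, Units.val_pow_eq_pow_val]
    have hmem : Classical.diagGL d ∈ Cfsg.GU n F q := Classical.diagGL_mem_GU hσ d fun i => Units.ext (by
      rw [Classical.normHom_apply, hσ, Units.val_one, ← pow_succ', ← Units.val_pow_eq_pow_val]
      simp only [d, ← pow_mul ω]
      rw [pow_mul, hωq, Units.val_one])
    refine ⟨⟨_, hmem⟩, ?_, fun j => ?_⟩
    · rw [killed_iff hζ]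
      show Matrix.diagonal (fun i => (d i : F)) ^ r = 1
      rw [Matrix.diagonal_pow, ← Matrix.diagonal_one]
      congr 1
      funext i
      rw [Pi.pow_apply, hd, ← pow_mul, mul_comm, pow_mul, hζ.pow_eq_one, one_pow]
    · rw [mult_lin]
      show finrank F (LinearMap.ker (Matrix.toLin' (Matrix.diagonal fun i => (d i : F)) -
        ζ ^ j.val • (1 : Module.End F (Fin n → F)))) = a.1 j
      have e1 : Matrix.toLin' (Matrix.diagonal fun i => (d i : F)) - ζ ^ j.val • (1 : Module.End F (Fin n → F)) =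
          Matrix.toLin' (Matrix.diagonal fun i => (d i : F) - ζ ^ j.val) := by
        refine LinearMap.ext fun x => funext fun i => ?_
        simp [Matrix.mulVec_diagonal, sub_mul]
      rw [e1]
      have h2 := LinearMap.finrank_range_add_finrank_ker
        (Matrix.toLin' (Matrix.diagonal fun i => (d i : F) - ζ ^ j.val))
      rw [Module.finrank_fin_fun] at h2
      have h3 : finrank F (LinearMap.range (Matrix.toLin' (Matrix.diagonal fun i => (d i : F) - ζ ^ j.val))) =
          Fintype.card {i // (d i : F) - ζ ^ j.val ≠ 0} :=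
        Matrix.rank_diagonal fun i => (d i : F) - ζ ^ j.val
      have h4 : Fintype.card {i // (d i : F) - ζ ^ j.val ≠ 0} = n - a.1 j := by
        rw [Fintype.card_subtype_compl, Fintype.card_fin]
        congr 1
        rw [Fintype.card_congr ((Equiv.subtypeEquiv e (q := fun x => x.1 = j) fun i => by
          rw [sub_eq_zero, hd]
          exact ⟨fun h => ZMod.val_injective r (hζ.pow_inj (ZMod.val_lt _) (ZMod.val_lt _) h), fun h => by rw [h]⟩).trans
          (Equiv.sigmaSubtype j)), Fintype.card_fin]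
      have h5 : a.1 j ≤ n :=
        (Finset.single_le_sum (f := a.1) (fun _ _ => Nat.zero_le _) (Finset.mem_univ j)).trans a.2.1.le
      omega
  choose R hR hRa using hrep
  have hR1 : ∀ a, ((R a : GL (Fin n) F) : Matrix (Fin n) (Fin n) F) ^ r = 1 := fun a => (killed_iff hζ _).1 (hR a)
  have hRns : ∀ a d, ((R a : GL (Fin n) F) : Matrix (Fin n) (Fin n) F) ≠ d • 1 := fun a d hd => by
    obtain ⟨j, hj⟩ := (scalar_iff hn hζ (hR1 a)).2 ⟨d, hd⟩
    exact a.2.2 j (by rw [← hRa, hj])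
  -- representatives of the second kind
  let K := {k : Fin r // (k : ℕ) ≠ 0 ∧ r ∣ n}
  have hirrk : ∀ k : K, Irreducible (X ^ r - C ((ω : F) ^ (k.1 : ℕ))) := fun k =>
    X_pow_sub_C_irreducible_of_prime hr fun b => hnoroot _ k.1.2 k.2.1 b
  have hrepk : ∀ k : K, ∃ g : ↥(Cfsg.GU n F q),
      ((g : GL (Fin n) F) : Matrix (Fin n) (Fin n) F) ^ r = (ω : F) ^ (k.1 : ℕ) • 1 := fun k => by
    obtain ⟨g, hg, -⟩ := exists_of_mult (f := fun _ : Unit => X ^ r - C ((ω : F) ^ (k.1 : ℕ))) (n := n)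
      (fun _ => hirrk k) (fun i j h => absurd (Subsingleton.elim i j) h)
      (fun _ => by
        rw [X_dvd_iff, coeff_sub, coeff_X_pow, if_neg hr.ne_zero.symm, coeff_C_zero, zero_sub, neg_eq_zero]
        exact pow_ne_zero _ ω.ne_zero)
      (fun _ => n / r) (by
        rw [Finset.univ_unique, Finset.sum_singleton, natDegree_X_pow_sub_C, Nat.div_mul_cancel k.2.2])
    rw [Finset.univ_unique, Finset.prod_singleton, map_sub, map_pow, aeval_X, aeval_C,
      Algebra.algebraMap_eq_smul_one, sub_eq_zero] at hg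
    have hg' : g ^ r = sm (ω ^ (k.1 : ℕ)) 1 := Units.ext (by
      rw [Units.val_pow_eq_pow_val, hg, sm_val, Units.val_one, Units.val_pow_eq_pow_val])
    have hadj : (((GUConj.adjGL σ g)⁻¹ : GL (Fin n) F) : Matrix (Fin n) (Fin n) F) ^ r =
        (ω : F) ^ (k.1 : ℕ) • 1 := by
      have e1 : ∀ i : ℕ, GUConj.adjGL σ (g ^ i) = GUConj.adjGL σ g ^ i := fun i => by
        induction i with
        | zero => exact Units.ext (GUConj.adj_one σ)
        | succ i ih => rw [pow_succ, GUConj.adjGL_mul, ih, ← pow_succ']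
      have e2 : (GUConj.adjGL σ g)⁻¹ ^ r = sm (ω ^ (k.1 : ℕ)) (1 : GL (Fin n) F) := by
        rw [inv_pow, ← e1, hg', inv_eq_iff_mul_eq_one]
        refine Units.ext ?_
        rw [Units.val_mul, sm_val, Units.val_one, mul_smul_comm, mul_one]
        show _ • GUConj.adj σ _ = 1
        rw [sm_val, Units.val_one, ← Algebra.algebraMap_eq_smul_one, GUConj.adj_algebraMap,
          Algebra.algebraMap_eq_smul_one, smul_smul, hσ, ← pow_succ', ← Units.val_pow_eq_pow_val, hωq,
          Units.val_one, one_smul]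
      rw [← Units.val_pow_eq_pow_val, e2, sm_val, Units.val_one, Units.val_pow_eq_pow_val]
    let f1 := fun _ : Unit => X ^ r - C ((ω : F) ^ (k.1 : ℕ))
    have hco1 : Pairwise fun i j => IsCoprime (f1 i) (f1 j) := fun i j h => absurd (Subsingleton.elim i j) h
    have hkill : ∀ M : GL (Fin n) F, (M : Matrix (Fin n) (Fin n) F) ^ r = (ω : F) ^ (k.1 : ℕ) • 1 →
        aeval (M : Matrix (Fin n) (Fin n) F) (∏ i, f1 i) = 0 := by
      intro M hM
      rw [Finset.univ_unique, Finset.prod_singleton, map_sub, map_pow, aeval_X, aeval_C,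
        Algebra.algebraMap_eq_smul_one, hM, sub_self]
    have hc : IsConj g (GUConj.adjGL σ g)⁻¹ :=
      isConj_of_mult_eq (fun _ => hirrk k) hco1 (hkill _ hg) (hkill _ hadj) fun i => by
        have h1 := sum_mult (fun _ => hirrk k) hco1 (hkill _ hg)
        have h2 := sum_mult (fun _ => hirrk k) hco1 (hkill _ hadj)
        simp only [Finset.univ_unique, Finset.sum_singleton, natDegree_X_pow_sub_C] at h1 h2
        exact Nat.eq_of_mul_eq_mul_right hr.pos (h1.trans h2.symm)
    obtain ⟨B, hB⟩ := (GUConj.similar_iff hF g).2 (by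
      rw [show (((g : Matrix (Fin n) (Fin n) F).map (fun x : F => x ^ q)).transpose)⁻¹ =
          (((GUConj.adjGL σ g)⁻¹ : GL (Fin n) F) : Matrix (Fin n) (Fin n) F) by
        rw [Matrix.coe_units_inv, ← funext hσ]; rfl]
      exact MonoidHom.map_isConj (Units.coeHom _) hc)
    refine ⟨B, ?_⟩
    obtain ⟨u, hu⟩ := isConj_iff.1 hB
    rw [← hu, ← Units.val_pow_eq_pow_val, conj_pow, hg', Units.val_mul, Units.val_mul, sm_val, Units.val_one,
      mul_smul_comm, mul_one, smul_mul_assoc, Units.mul_inv, Units.val_pow_eq_pow_val]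
  choose J hJ using hrepk
  have hJns : ∀ k d, ((J k : GL (Fin n) F) : Matrix (Fin n) (Fin n) F) ≠ d • 1 := fun k d hd => by
    have h := hJ k
    rw [hd, pow_smul, one_pow] at h
    have h1 := smul_one_inj hn h
    have h2 : (X - C d) ∣ (X ^ r - C ((ω : F) ^ (k.1 : ℕ))) := by
      rw [dvd_iff_isRoot]
      simp [h1]
    obtain ⟨c, hc⟩ := h2
    rcases (hirrk k).isUnit_or_isUnit hc with hu | hu
    · exact not_isUnit_X_sub_C d hu
    · have := congrArg natDegree hc
      rw [natDegree_X_pow_sub_C, natDegree_mul (X_sub_C_ne_zero d) hu.ne_zero, natDegree_eq_zero_of_isUnit hu,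
        natDegree_X_sub_C, add_zero] at this
      exact hr.ne_one this
  let Cls := {C : ConjClasses (↥(Cfsg.GU n F q) ⧸ Subgroup.center ↥(Cfsg.GU n F q)) //
    ∃ g : ↥(Cfsg.GU n F q) ⧸ Subgroup.center ↥(Cfsg.GU n F q), ConjClasses.mk g = C ∧ orderOf g = r}
  let cls : ∀ g : ↥(Cfsg.GU n F q),
      orderOf (QuotientGroup.mk g : ↥(Cfsg.GU n F q) ⧸ Subgroup.center ↥(Cfsg.GU n F q)) = r →
      Cls := fun g hg => ⟨ConjClasses.mk (QuotientGroup.mk g), _, rfl, hg⟩
  have cls_eq : ∀ g hg h hh, cls g hg = cls h hh ↔ ∃ (u : GL (Fin n) F) (c : Fˣ), c ^ (q + 1) = 1 ∧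
      (h : GL (Fin n) F) = sm c (u * (g : GL (Fin n) F) * u⁻¹) := by
    intro g hg h hh
    rw [Subtype.ext_iff, ConjClasses.mk_eq_mk_iff_isConj, isConj_mk_iff hF hn2]
  have hordR : ∀ a, orderOf (QuotientGroup.mk (R a) : ↥(Cfsg.GU n F q) ⧸ Subgroup.center ↥(Cfsg.GU n F q)) = r :=
    fun a => (exists_of_order_r hF hn2 hr _).2 ⟨⟨1, one_pow _, by simp [hR1]⟩, hRns a⟩
  have hordJ : ∀ k, orderOf (QuotientGroup.mk (J k) : ↥(Cfsg.GU n F q) ⧸ Subgroup.center ↥(Cfsg.GU n F q)) = r :=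
    fun k => (exists_of_order_r hF hn2 hr _).2
      ⟨⟨ω ^ (k.1 : ℕ), hωq _, by rw [hJ, Units.val_pow_eq_pow_val]⟩, hJns k⟩
  have conj_pow' : ∀ (u g : GL (Fin n) F) (c : Fˣ) (e : F), (g : Matrix (Fin n) (Fin n) F) ^ r = e • 1 →
      (sm c (u * g * u⁻¹) : Matrix (Fin n) (Fin n) F) ^ r = ((c : F) ^ r * e) • 1 := by
    intro u g c e he
    rw [sm_val, pow_smul, ← Units.val_pow_eq_pow_val (u * g * u⁻¹), conj_pow, Units.val_mul, Units.val_mul,
      Units.val_pow_eq_pow_val, he, mul_smul_comm, mul_one, smul_mul_assoc, Units.mul_inv, smul_smul]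
  have hroot : ∀ c : Fˣ, (c : F) ^ r = 1 → ∃ s : ZMod r, (c : F) = ζ ^ s.val := by
    intro c hc
    obtain ⟨i, hi, hic⟩ := hζ.eq_pow_of_pow_eq_one hc
    exact ⟨(i : ZMod r), by rw [ZMod.val_natCast, Nat.mod_eq_of_lt hi, hic]⟩
  have hmult : ∀ (u g : GL (Fin n) F) (c : Fˣ) (s : ZMod r), (c : F) = ζ ^ s.val → ∀ j,
      mult (lin ζ r) (sm c (u * g * u⁻¹)) j = mult (lin ζ r) g (j - s) := by
    intro u g c s hs j
    rw [mult_scale hζ hs, mult, mult, finrank_comp_conj (isConj_iff.2 ⟨u, rfl⟩)]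
  have hwell : ∀ a b : Types r n, MulAction.orbitRel (Multiplicative (ZMod r)) (Types r n) a b →
      cls (R a) (hordR a) = cls (R b) (hordR b) := by
    intro a b hab
    rw [MulAction.orbitRel_apply, MulAction.mem_orbit_iff] at hab
    obtain ⟨s, hs⟩ := hab
    symm
    let c : Fˣ := Units.mk0 (ζ ^ s.toAdd.val) (pow_ne_zero _ (hζ.ne_zero hr.ne_zero))
    have hcq : c ^ (q + 1) = 1 := by
      refine Units.ext ?_
      show (c : F) ^ (q + 1) = 1
      rw [show (c : F) = ((ω ^ m) ^ s.toAdd.val : Fˣ) by simp [c, ζ, Units.val_pow_eq_pow_val],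
        ← Units.val_pow_eq_pow_val, ← pow_mul ω, hωq, Units.val_one]
    have hk : aeval (sm c (R b : GL (Fin n) F) : Matrix (Fin n) (Fin n) F) (∏ j, lin ζ r j) = 0 := by
      rw [killed_iff hζ, sm_val, pow_smul, hR1, show (c : F) = ζ ^ s.toAdd.val from rfl, ← pow_mul, mul_comm,
        pow_mul, hζ.pow_eq_one, one_pow, one_smul]
    have hconj : IsConj (sm c (R b : GL (Fin n) F)) (R a : GL (Fin n) F) := isConj_of_mult_eq hirr hco hk (hR a) fun j => by
      rw [mult_scale hζ rfl, hRa, hRa, ← hs, PGLPrime.smul_apply]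
    obtain ⟨u, hu⟩ := isConj_iff.1 hconj
    refine (cls_eq _ (hordR b) _ (hordR a)).2 ⟨u, c, hcq, ?_⟩
    rw [← hu]
    refine Units.ext ?_
    rw [sm_val, Units.val_mul, Units.val_mul, sm_val, Units.val_mul, Units.val_mul, mul_smul_comm, smul_mul_assoc]
  let Φ : MulAction.orbitRel.Quotient (Multiplicative (ZMod r)) (Types r n) ⊕ K → Cls :=
    Sum.elim (Quotient.lift (fun a => cls (R a) (hordR a)) hwell) fun k => cls (J k) (hordJ k)
  have hΦ : Function.Bijective Φ := by
    constructor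
    · rintro (x | k) (y | l) h
      · induction x using Quotient.ind with
        | _ a =>
        induction y using Quotient.ind with
        | _ b =>
        obtain ⟨u, c, hcq, hc⟩ := (cls_eq _ (hordR a) _ (hordR b)).1 h
        have h1 := hR1 b
        rw [hc, conj_pow' u _ c 1 (by rw [hR1, one_smul]), mul_one] at h1
        obtain ⟨s, hs⟩ := hroot c (smul_one_inj hn (h1.trans (one_smul F _).symm))
        refine congrArg Sum.inl (Quotient.sound ?_).symm
        refine MulAction.mem_orbit_iff.2 ⟨Multiplicative.ofAdd s, Subtype.ext (funext fun j => ?_)⟩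
        rw [PGLPrime.smul_apply, ← hRa b, hc, hmult u _ c s hs, hRa]
        rfl
      · induction x using Quotient.ind with
        | _ a =>
        exfalso
        obtain ⟨u, c, hcq, hc⟩ := (cls_eq _ (hordR a) _ (hordJ l)).1 h
        have h1 := hJ l
        rw [hc, conj_pow' u _ c 1 (by rw [hR1, one_smul]), mul_one] at h1
        have h2 := smul_one_inj hn h1
        obtain ⟨e, he⟩ := hlog c hcq
        rw [← he, Units.val_pow_eq_pow_val, ← pow_mul] at h2
        have h3 := hpow _ _ h2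
        rw [Nat.cast_mul, ZMod.natCast_self, mul_zero, eq_comm, ZMod.natCast_eq_zero_iff] at h3
        exact l.2.1 (Nat.eq_zero_of_dvd_of_lt h3 l.1.2)
      · induction y using Quotient.ind with
        | _ b =>
        exfalso
        obtain ⟨u, c, hcq, hc⟩ := (cls_eq _ (hordJ k) _ (hordR b)).1 h
        have h1 := hR1 b
        rw [hc, conj_pow' u _ c _ (hJ k)] at h1
        have h2 := smul_one_inj hn (h1.trans (one_smul F _).symm)
        obtain ⟨e, he⟩ := hlog c hcq
        rw [← he, Units.val_pow_eq_pow_val, ← pow_mul, ← pow_add, ← pow_zero (ω : F)] at h2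
        have h3 := hpow _ _ h2
        rw [Nat.cast_add, Nat.cast_mul, ZMod.natCast_self, mul_zero, zero_add, Nat.cast_zero,
          ZMod.natCast_eq_zero_iff] at h3
        exact k.2.1 (Nat.eq_zero_of_dvd_of_lt h3 k.1.2)
      · obtain ⟨u, c, hcq, hc⟩ := (cls_eq _ (hordJ k) _ (hordJ l)).1 h
        have h1 := hJ l
        rw [hc, conj_pow' u _ c _ (hJ k)] at h1
        have h2 := smul_one_inj hn h1
        obtain ⟨e, he⟩ := hlog c hcq
        rw [← he, Units.val_pow_eq_pow_val, ← pow_mul, ← pow_add] at h2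
        have h3 := hpow _ _ h2
        rw [Nat.cast_add, Nat.cast_mul, ZMod.natCast_self, mul_zero, zero_add,
          ZMod.natCast_eq_natCast_iff] at h3
        exact congrArg Sum.inr (Subtype.ext (Fin.ext (Nat.ModEq.eq_of_lt_of_lt h3 k.1.2 l.1.2)))
    · rintro ⟨C', x, rfl, hx⟩
      obtain ⟨g, rfl⟩ := QuotientGroup.mk_surjective x
      obtain ⟨⟨c, hcq, hc⟩, hns⟩ := (exists_of_order_r hF hn2 hr g).1 hx
      obtain ⟨e, he⟩ := hlog c hcq
      set d : Fˣ := (ω ^ (e / r))⁻¹
      have hdq : d⁻¹ ^ (q + 1) = 1 := by rw [inv_inv]; exact hωq _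
      have hg' : (sm d (g : GL (Fin n) F) : Matrix (Fin n) (Fin n) F) ^ r = (ω : F) ^ (e % r) • 1 := by
        rw [sm_val, pow_smul, hc, smul_smul, ← he]
        congr 1
        rw [← Units.val_pow_eq_pow_val, ← Units.val_mul, ← Units.val_pow_eq_pow_val]
        congr 1
        rw [inv_pow, inv_mul_eq_iff_eq_mul, ← pow_mul, ← pow_add, Nat.div_add_mod' e r]
      have hns' : ∀ z : F, (sm d (g : GL (Fin n) F) : Matrix (Fin n) (Fin n) F) ≠ z • 1 := fun z hz => by
        rw [sm_val] at hz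
        refine hns ((d : F)⁻¹ * z) ?_
        rw [mul_smul, ← hz, smul_smul, inv_mul_cancel₀ d.ne_zero, one_smul]
      let g' : MulAction.orbitRel.Quotient (Multiplicative (ZMod r)) (Types r n) ⊕ K → Set ↥(Cfsg.GU n F q) :=
        Sum.elim (fun x => R '' {a | ⟦a⟧ = x}) fun k => {J k}
      have hfin : ∀ y, (∃ u : GL (Fin n) F, ∃ g₀ ∈ g' y, u * (g₀ : GL (Fin n) F) * u⁻¹ = sm d (g : GL (Fin n) F)) → ∃ x, Φ x = ⟨ConjClasses.mk (QuotientGroup.mk g), _, rfl, hx⟩ := by
        intro y ⟨u, g₀, hg₀, hu⟩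
        refine ⟨y, ?_⟩
        have key : ∀ (g₀ : ↥(Cfsg.GU n F q)) (h₀), u * (g₀ : GL (Fin n) F) * u⁻¹ = sm d (g : GL (Fin n) F) → cls g₀ h₀ = cls g hx := by
          intro g₀ h₀ he₀
          refine (cls_eq g₀ h₀ g hx).2 ⟨u, d⁻¹, hdq, ?_⟩
          rw [he₀]
          refine Units.ext ?_
          rw [sm_val, sm_val, smul_smul, ← Units.val_mul, inv_mul_cancel, Units.val_one, one_smul]
        rcases y with y | y
        · obtain ⟨a, ha, rfl⟩ := hg₀
          simp only [Set.mem_setOf_eq] at ha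
          subst ha
          exact key _ (hordR a) hu
        · obtain rfl : g₀ = J y := hg₀
          exact key _ (hordJ y) hu
      rcases Nat.eq_zero_or_pos (e % r) with h0' | hpos
      · rw [h0', pow_zero, one_smul] at hg'
        let a : Types r n := ⟨mult (lin ζ r) (sm d (g : GL (Fin n) F)), by
          simpa [natDegree_lin] using sum_mult hirr hco ((killed_iff hζ _).2 hg'), fun j hj => by
          obtain ⟨z, hz⟩ := (scalar_iff hn hζ hg').1 ⟨j, hj⟩
          exact hns' z hz⟩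
        obtain ⟨u, hu⟩ := isConj_iff.1
          (isConj_of_mult_eq hirr hco (hR a) ((killed_iff hζ _).2 hg') (hRa a))
        exact hfin (Sum.inl ⟦a⟧) ⟨u, R a, ⟨a, rfl, rfl⟩, hu⟩
      · have hk : (⟨e % r, Nat.mod_lt _ hr.pos⟩ : Fin r).1 ≠ 0 := Nat.pos_iff_ne_zero.1 hpos
        have hirr1 : Irreducible (X ^ r - C ((ω : F) ^ (e % r))) :=
          X_pow_sub_C_irreducible_of_prime hr fun b => hnoroot _ (Nat.mod_lt _ hr.pos) hk b
        let f1 := fun _ : Unit => X ^ r - C ((ω : F) ^ (e % r))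
        have hco1 : Pairwise fun i j => IsCoprime (f1 i) (f1 j) := fun i j h => absurd (Subsingleton.elim i j) h
        have hkill : ∀ M : GL (Fin n) F, (M : Matrix (Fin n) (Fin n) F) ^ r = (ω : F) ^ (e % r) • 1 →
            aeval (M : Matrix (Fin n) (Fin n) F) (∏ i, f1 i) = 0 := by
          intro M hM
          rw [Finset.univ_unique, Finset.prod_singleton, map_sub, map_pow, aeval_X, aeval_C,
            Algebra.algebraMap_eq_smul_one, hM, sub_self]
        have hsum := sum_mult (fun _ => hirr1) hco1 (hkill _ hg')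
        simp only [Finset.univ_unique, Finset.sum_singleton, f1, natDegree_X_pow_sub_C] at hsum
        let k : K := ⟨⟨e % r, Nat.mod_lt _ hr.pos⟩, hk, Dvd.intro_left _ hsum⟩
        obtain ⟨u, hu⟩ := isConj_iff.1
          (isConj_of_mult_eq (fun _ => hirr1) hco1 (hkill _ (hJ k)) (hkill _ hg') fun i => by
            have h1 := sum_mult (fun _ => hirr1) hco1 (hkill _ (hJ k))
            simp only [Finset.univ_unique, Finset.sum_singleton, f1, natDegree_X_pow_sub_C] at h1
            exact Nat.eq_of_mul_eq_mul_right hr.pos (h1.trans hsum.symm))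
        exact hfin (Sum.inr k) ⟨u, J k, rfl, hu⟩
  have hK : Nat.card K = (r - 1) * if r ∣ n then 1 else 0 := by
    split_ifs with h
    · rw [mul_one, Nat.card_eq_fintype_card, Fintype.card_congr (Equiv.subtypeEquivRight
        (q := fun k : Fin r => ¬ k = 0) fun k => ⟨fun h' hk => h'.1 (congrArg Fin.val hk),
          fun hk => ⟨fun e => hk (Fin.ext e), h⟩⟩), Fintype.card_subtype_compl,
        Fintype.card_fin, Fintype.card_subtype_eq]
    · rw [mul_zero, Nat.card_eq_zero]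
      exact Or.inl ⟨fun k => h k.2.2⟩
  have hO := card_orbits r n hn
  rw [← Nat.card_congr (Equiv.ofBijective Φ hΦ), Nat.card_sum, hK]
  set O := Nat.card (MulAction.orbitRel.Quotient (Multiplicative (ZMod r)) (Types r n))
  have hle : (if r ∣ n then 1 else 0) ≤ O ∧ (if r ∣ n then 1 else 0) ≤ (n + r - 1).choose (r - 1) - r := by
    split_ifs with h
    · have hne : Nonempty (Types r n) := ⟨⟨fun _ => n / r, by simp [Finset.card_univ, ZMod.card, Nat.mul_div_cancel' h],
        fun _ => by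
          have h1 := Nat.div_lt_self (by omega : 0 < n) hr.one_lt
          show n / r ≠ n
          omega⟩⟩
      refine ⟨?_, ?_⟩
      · haveI : Finite (MulAction.orbitRel.Quotient (Multiplicative (ZMod r)) (Types r n)) :=
          Finite.of_surjective _ Quotient.mk_surjective
        haveI : Nonempty (MulAction.orbitRel.Quotient (Multiplicative (ZMod r)) (Types r n)) := ⟨Quotient.mk _ hne.some⟩
        exact Nat.card_pos
      · rw [← card_types r n hn]
        exact Nat.card_pos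
    · simp
  obtain ⟨r', rfl⟩ : ∃ r', r = r' + 1 := ⟨r - 1, by have := hr.pos; omega⟩
  split_ifs at hO hle ⊢ with h
  · obtain ⟨O', hO'⟩ : ∃ O', O = O' + 1 := ⟨O - 1, by omega⟩
    rw [hO'] at hO ⊢
    have e1 : (n + (r' + 1) - 1).choose (r' + 1 - 1) - (r' + 1) - 1 = (r' + 1) * O' := by
      simp only [Nat.add_sub_cancel, mul_one] at hO ⊢
      have : (O' + 1) * (r' + 1) = (r' + 1) * O' + r' + 1 := by ring
      omega
    rw [e1, Nat.mul_div_cancel_left _ (by omega : 0 < r' + 1)]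
    omega
  · simp only [mul_zero, add_zero, Nat.sub_zero] at hO ⊢
    rw [← hO, Nat.mul_div_cancel _ (by omega : 0 < r' + 1)]

end CfsgLib.KnownC.PGUPrime
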